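import Cfsg.Agent.H881.DM.Univ

/-!
# Subgroups of order 2 and 6 of `Z₃ × Z₂ × Z₂`; automorphisms without fixed involutions
-/

set_option autoImplicit false

namespace Cfsg.Agent.H881.DM

open Cfsg.Agent.H487 Function

universe u v w

/-- the abstract properties of `Z₃ × Z₂ × Z₂` -/
structure Six (A : Type w) [Group A] : Prop where
  comm : ∀ x y : A, x * y = y * x
  six : ∀ x : A, x ^ 6 = 1
  card : Nat.card A = 12
  inv : ∀ s t r : A, s ≠ t → s * s = 1 → t * t = 1 → r * r = 1 → s ≠ 1 → t ≠ 1 → r ≠ 1 → r = s ∨ r = t ∨ r = s * t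
  ex : ∀ t : A, t * t = 1 → t ≠ 1 → ∃ s : A, s * s = 1 ∧ s ≠ 1 ∧ s ≠ t

set_option synthInstance.maxHeartbeats 400000 in
set_option synthInstance.maxSize 1000 in
theorem inv_model : ∀ s t r : Multiplicative (ZMod 3 × ZMod 2 × ZMod 2),
    (s ≠ t ∧ s * s = 1 ∧ t * t = 1 ∧ r * r = 1 ∧ s ≠ 1 ∧ t ≠ 1 ∧ r ≠ 1) → (r = s ∨ r = t ∨ r = s * t) := by
  decide

theorem six_model : Six (Multiplicative (ZMod 3 × ZMod 2 × ZMod 2)) where
  comm := fun x y => mul_comm x y
  six := by decide
  card := by rw [Nat.card_congr Multiplicative.toAdd, Nat.card_prod, Nat.card_prod, Nat.card_zmod, Nat.card_zmod]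
  inv := fun s t r h1 h2 h3 h4 h5 h6 h7 => inv_model s t r ⟨h1, h2, h3, h4, h5, h6, h7⟩
  ex := by decide

theorem Six.congr {A : Type w} [Group A] {B : Type v} [Group B] (h : Six B) (e : A ≃* B) : Six A where
  comm x y := e.injective (by rw [map_mul, map_mul, h.comm])
  six x := e.injective (by rw [map_pow, h.six, map_one])
  card := by rw [Nat.card_congr e.toEquiv, h.card]
  inv s t r hst hs ht hr hs1 ht1 hr1 := by
    rcases h.inv (e s) (e t) (e r) (fun h => hst (e.injective h)) (by rw [← map_mul, hs, map_one])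
      (by rw [← map_mul, ht, map_one]) (by rw [← map_mul, hr, map_one])
      (fun h => hs1 (e.injective (h.trans (map_one e).symm))) (fun h => ht1 (e.injective (h.trans (map_one e).symm)))
      (fun h => hr1 (e.injective (h.trans (map_one e).symm))) with h1 | h1 | h1
    · exact Or.inl (e.injective h1)
    · exact Or.inr (Or.inl (e.injective h1))
    · exact Or.inr (Or.inr (e.injective (by rw [h1, map_mul])))
  ex t ht ht1 := by
    obtain ⟨s, h1, h2, h3⟩ := h.ex (e t) (by rw [← map_mul, ht, map_one])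
      (fun h => ht1 (e.injective (h.trans (map_one e).symm)))
    refine ⟨e.symm s, by rw [← map_mul, h1, map_one], fun h => h2 ?_, fun h => h3 ?_⟩
    · rw [← e.apply_symm_apply s, h, map_one]
    · rw [← e.apply_symm_apply s, h]

/-- a subgroup of order 2 -/
theorem Six.two {A : Type w} [Group A] {X : Subgroup A} (hX : Nat.card X = 2) :
    ∃ t : A, t * t = 1 ∧ t ≠ 1 ∧ ∀ x, x ∈ X ↔ x = 1 ∨ x = t := by
  obtain ⟨a, b, hab, hu⟩ := Nat.card_eq_two_iff.1 hX
  have hcov : ∀ x ∈ X, x = (a : A) ∨ x = b := by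
    intro x hx
    have h1 : (⟨x, hx⟩ : X) ∈ ({a, b} : Set X) := by rw [hu]; trivial
    rcases h1 with h1 | h1
    · exact Or.inl (congrArg Subtype.val h1)
    · exact Or.inr (congrArg Subtype.val h1)
  have hab' : (a : A) ≠ b := fun h => hab (Subtype.ext h)
  rcases hcov 1 X.one_mem with h | h
  · have hb : (b : A) ≠ 1 := fun h' => hab' (h.symm.trans h'.symm)
    refine ⟨b, ?_, hb, fun x => ⟨fun hx => ?_, ?_⟩⟩
    · rcases hcov _ (X.mul_mem b.2 b.2) with h1 | h1
      · rw [h1, ← h]
      · exact absurd (mul_eq_left.1 h1) hb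
    · rcases hcov x hx with h1 | h1
      · exact Or.inl (by rw [h1, ← h])
      · exact Or.inr h1
    · rintro (rfl | rfl)
      · exact X.one_mem
      · exact b.2
  · have hb : (a : A) ≠ 1 := fun h' => hab' (h'.trans h)
    refine ⟨a, ?_, hb, fun x => ⟨fun hx => ?_, ?_⟩⟩
    · rcases hcov _ (X.mul_mem a.2 a.2) with h1 | h1
      · exact absurd (mul_eq_left.1 h1) hb
      · rw [h1, ← h]
    · rcases hcov x hx with h1 | h1
      · exact Or.inr h1
      · exact Or.inl (by rw [h1, ← h])
    · rintro (rfl | rfl)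
      · exact X.one_mem
      · exact a.2

/-- a subgroup of order 6 -/
theorem Six.sixth {A : Type w} [Group A] (hA : Six A) {X : Subgroup A} (hX : Nat.card X = 6) :
    ∃ t : A, t * t = 1 ∧ t ≠ 1 ∧ ∀ x, x ∈ X ↔ x ^ 3 = 1 ∨ x ^ 3 = t := by
  have : Finite A := Nat.finite_of_card_ne_zero (by rw [hA.card]; norm_num)
  have hidx : X.index = 2 := by
    have h1 := X.card_mul_index
    rw [hX, hA.card] at h1
    omega
  have : Fact (Nat.Prime 2) := ⟨Nat.prime_two⟩
  obtain ⟨t0, ht0⟩ := exists_prime_orderOf_dvd_card' (G := X) 2 (by rw [hX]; norm_num)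
  have ht2 : (t0 : A) * t0 = 1 := by
    have h1 := pow_orderOf_eq_one t0
    rw [ht0, pow_two] at h1
    exact congrArg Subtype.val h1
  have ht1 : (t0 : A) ≠ 1 := by
    intro h
    have h1 : t0 = 1 := Subtype.ext h
    rw [h1, orderOf_one] at ht0
    exact absurd ht0 (by norm_num)
  have huniq : ∀ s ∈ X, s * s = 1 → s ≠ 1 → s = t0 := by
    intro s hs hs2 hs1
    by_contra hne
    -- the four elements `1, s, t, s t` form a subgroup of order 4
    let V : Subgroup A :=
      { carrier := {x | x ∈ X ∧ x * x = 1}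
        one_mem' := ⟨X.one_mem, one_mul 1⟩
        mul_mem' := by
          rintro x y ⟨hx, hx2⟩ ⟨hy, hy2⟩
          refine ⟨X.mul_mem hx hy, ?_⟩
          rw [mul_assoc, ← mul_assoc y, hA.comm y x, mul_assoc x y y, hy2, mul_one, hx2]
        inv_mem' := by
          rintro x ⟨hx, hx2⟩
          refine ⟨X.inv_mem hx, ?_⟩
          rw [← mul_inv_rev, hx2, inv_one] }
    have hV : Nat.card V = 4 := by
      have e : (V : Set A) = {1, s, (t0 : A), s * t0} := by
        ext x
        constructor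
        · rintro ⟨hx, hx2⟩
          by_cases h1 : x = 1
          · exact Or.inl h1
          · rcases hA.inv s t0 x hne hs2 ht2 hx2 hs1 ht1 h1 with h2 | h2 | h2
            · exact Or.inr (Or.inl h2)
            · exact Or.inr (Or.inr (Or.inl h2))
            · exact Or.inr (Or.inr (Or.inr h2))
        · rintro (rfl | rfl | rfl | rfl)
          · exact V.one_mem
          · exact ⟨hs, hs2⟩
          · exact ⟨t0.2, ht2⟩
          · exact V.mul_mem ⟨hs, hs2⟩ ⟨t0.2, ht2⟩
      have h3 : Nat.card V = (V : Set A).ncard := rfl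
      rw [h3, e, Set.ncard_insert_of_notMem, Set.ncard_insert_of_notMem, Set.ncard_pair]
      · intro h
        exact hs1 (mul_eq_right.1 h.symm)
      · rw [Set.mem_insert_iff, Set.mem_singleton_iff, not_or]
        exact ⟨hne, fun h => ht1 (mul_eq_left.1 h.symm)⟩
      · rw [Set.mem_insert_iff, Set.mem_insert_iff, Set.mem_singleton_iff, not_or, not_or]
        refine ⟨fun h => hs1 h.symm, fun h => ht1 h.symm, fun h => hne ?_⟩
        exact (mul_left_injective (t0 : A)) (by show s * t0 = t0 * t0; rw [ht2]; exact h.symm)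
    have h4 : Nat.card V ∣ Nat.card X := Subgroup.card_dvd_of_le (fun x hx => hx.1)
    rw [hV, hX] at h4
    exact absurd h4 (by norm_num)
  refine ⟨t0, ht2, ht1, fun x => ⟨fun hx => ?_, fun hx => ?_⟩⟩
  · by_cases h1 : x ^ 3 = 1
    · exact Or.inl h1
    · refine Or.inr (huniq _ (X.pow_mem hx 3) ?_ h1)
      rw [← pow_add]; exact hA.six x
  · have h2 : x ^ 2 ∈ X := Subgroup.sq_mem_of_index_two hidx x
    have h3 : x ^ 3 ∈ X := by
      rcases hx with h | h
      · rw [h]; exact X.one_mem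
      · rw [h]; exact t0.2
    have h4 : x = x ^ 3 * (x ^ 2)⁻¹ := by
      rw [pow_succ' x 2, mul_inv_cancel_right]
    rw [h4]
    exact X.mul_mem h3 (X.inv_mem h2)

/-- an automorphism without fixed involutions is transitive on the involutions -/
theorem Six.trans {A : Type w} [Group A] (hA : Six A) (a : A →* A) (ha : Injective a)
    (hfix : ∀ t : A, t * t = 1 → t ≠ 1 → a t ≠ t) {t r : A} (ht : t * t = 1) (ht1 : t ≠ 1) (hr : r * r = 1)
    (hr1 : r ≠ 1) : r = t ∨ r = a t ∨ r = a (a t) := by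
  have hinv : ∀ x : A, x * x = 1 → x ≠ 1 → a x * a x = 1 ∧ a x ≠ 1 := fun x hx hx1 =>
    ⟨by rw [← map_mul, hx, map_one], fun h => hx1 (ha (h.trans (map_one a).symm))⟩
  obtain ⟨hs, hs1⟩ := hinv t ht ht1
  obtain ⟨hss, hss1⟩ := hinv _ hs hs1
  have hst := hfix t ht ht1
  have hssa := hfix _ hs hs1
  have hm : (a t * t) * (a t * t) = 1 := by
    rw [mul_assoc, ← mul_assoc t, hA.comm t (a t), mul_assoc (a t) t t, ht, mul_one, hs]
  have hm1 : a t * t ≠ 1 := by
    intro h
    apply hst
    exact (mul_left_injective t) (by show a t * t = t * t; rw [h, ht])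
  obtain ⟨hmm, hmm1⟩ := hinv _ hm hm1
  have key : a (a t) = a t * t := by
    rcases hA.inv (a t) t (a (a t)) hst hs ht hss hs1 ht1 hss1 with h | h | h
    · exact absurd h hssa
    · exfalso
      apply hfix _ hm hm1
      rw [map_mul, h, hA.comm]
    · exact h
  rcases hA.inv (a t) t r hst hs ht hr hs1 ht1 hr1 with h | h | h
  · exact Or.inr (Or.inl h)
  · exact Or.inl h
  · exact Or.inr (Or.inr (h.trans key.symm))

end Cfsg.Agent.H881.DM
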