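import Cfsg.Agent.H487.SchurPerfect
import Cfsg.Agent.H487.SchurMult

/-!
# Quasisimple covers as quotients of the universal central extension; twisting by an automorphism

`U = UU S`, `q = prU S : U →* S`. A perfect group `G` with `π : G →* S` onto, central kernel, is a quotient `f : U →* G`
with kernel of index `|ker π|` in `ker q`. An automorphism `δ` of `S` lifts to `U`.
-/

set_option autoImplicit false

namespace Cfsg.Agent.H881.DM

open Cfsg.Agent.H487 Function

universe u v w

section

variable {S : Type u} [Group S]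

/-- the lift of an automorphism to the universal central extension -/
theorem exists_lift_aut (hS : Group.IsPerfect S) (δ : S ≃* S) :
    ∃ a : UU S ≃* UU S, ∀ x, prU S (a x) = δ (prU S x) := by
  obtain ⟨η, hη⟩ := exists_prU_lift S δ.toMonoidHom (prU_surjective hS) (prU_ker_central S)
  obtain ⟨ζ, hζ⟩ := exists_prU_lift S δ.symm.toMonoidHom (prU_surjective hS) (prU_ker_central S)
  have hη' : ∀ x, prU S (η x) = δ (prU S x) := fun x => DFunLike.congr_fun hη x
  have hζ' : ∀ x, prU S (ζ x) = δ.symm (prU S x) := fun x => DFunLike.congr_fun hζ x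
  have h1 : η.comp ζ = MonoidHom.id _ := by
    apply hom_unique_of_perfect (isPerfect_UU hS) (prU_ker_central S)
    ext x
    show prU S (η (ζ x)) = prU S x
    rw [hη', hζ', MulEquiv.apply_symm_apply]
  have h2 : ζ.comp η = MonoidHom.id _ := by
    apply hom_unique_of_perfect (isPerfect_UU hS) (prU_ker_central S)
    ext x
    show prU S (ζ (η x)) = prU S x
    rw [hζ', hη', MulEquiv.symm_apply_apply]
  exact ⟨MonoidHom.toMulEquiv η ζ h2 h1, hη'⟩

/-- a perfect central extension is a quotient of the universal one -/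
theorem exists_quot (hS : Group.IsPerfect S) {G : Type v} [Group G] (hG : Group.IsPerfect G) {π : G →* S}
    (hs : Surjective π) (hc : π.ker ≤ Subgroup.center G) :
    ∃ f : UU S →* G, Surjective f ∧ ∀ x, π (f x) = prU S x := by
  obtain ⟨η, hη⟩ := exists_prU_lift S (MonoidHom.id S) hs hc
  have hη' : ∀ x, π (η x) = prU S x := fun x => DFunLike.congr_fun hη x
  refine ⟨η, ?_, hη'⟩
  have h1 : ∀ g : G, ∃ x, ∃ z ∈ π.ker, g = η x * z := by
    intro g
    obtain ⟨x, hx⟩ := prU_surjective hS (π g)
    refine ⟨x, (η x)⁻¹ * g, ?_, by rw [mul_inv_cancel_left]⟩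
    rw [MonoidHom.mem_ker, map_mul, map_inv, hη', hx, inv_mul_cancel]
  have h2 : commutator G ≤ η.range := by
    rw [_root_.commutator_def, Subgroup.commutator_le]
    intro g _ g' _
    obtain ⟨x, z, hz, rfl⟩ := h1 g
    obtain ⟨y, w, hw, rfl⟩ := h1 g'
    have hz' := Subgroup.mem_center_iff.1 (hc hz)
    have hw' := Subgroup.mem_center_iff.1 (hc hw)
    refine ⟨x * y * x⁻¹ * y⁻¹, ?_⟩
    rw [commutatorElement_def, map_mul, map_mul, map_mul, map_inv, map_inv]
    have e1 : η x * z * (η y * w) * (η x * z)⁻¹ * (η y * w)⁻¹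
        = η x * (z * (η y * w * z⁻¹)) * (η x)⁻¹ * w⁻¹ * (η y)⁻¹ := by
      rw [mul_inv_rev, mul_inv_rev]; group
    rw [e1, ← mul_assoc z, ← hz' (η y * w), mul_inv_cancel_right]
    rw [show η x * (η y * w) * (η x)⁻¹ * w⁻¹ * (η y)⁻¹ = η x * η y * (w * (η x)⁻¹ * w⁻¹) * (η y)⁻¹ by group]
    rw [← hw' (η x)⁻¹, mul_inv_cancel_right]
  intro g
  have hg : g ∈ commutator G := by rw [hG.commutator_eq_top]; trivial
  exact h2 hg

theorem ker_le {G : Type v} [Group G] {π : G →* S} {f : UU S →* G} (hf : ∀ x, π (f x) = prU S x) :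
    f.ker ≤ (prU S).ker := by
  intro x hx
  rw [MonoidHom.mem_ker, ← hf, MonoidHom.mem_ker.1 hx, map_one]

theorem card_ker {G : Type v} [Group G] {π : G →* S} {f : UU S →* G} (hs : Surjective f)
    (hf : ∀ x, π (f x) = prU S x) :
    Nat.card (prU S).ker = Nat.card f.ker * Nat.card π.ker := by
  have e : (prU S).ker.map f = π.ker := by
    ext g
    constructor
    · rintro ⟨x, hx, rfl⟩
      rw [MonoidHom.mem_ker, hf]; exact hx
    · intro hg
      obtain ⟨x, rfl⟩ := hs g
      exact ⟨x, by rw [SetLike.mem_coe, MonoidHom.mem_ker, ← hf]; exact hg, rfl⟩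
  rw [← e]
  have h1 := Subgroup.card_mul_index (f.ker.subgroupOf (prU S).ker)
  rw [← h1]
  congr 1
  · exact Nat.card_congr (Subgroup.subgroupOfEquivOfLe (ker_le hf)).toEquiv
  · have h2 : f.ker.subgroupOf (prU S).ker = (f.comp (prU S).ker.subtype).ker := by
      ext x; rfl
    rw [h2, Subgroup.index_ker]
    congr 2
    rw [MonoidHom.range_comp, Subgroup.range_subtype]

/-- quotients of `U` by subgroups exchanged by an automorphism are isomorphic -/
theorem equiv_of_map {U : Type w} [Group U] {G : Type u} {H : Type v} [Group G] [Group H] {f : U →* G} {g : U →* H}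
    (hf : Surjective f) (hg : Surjective g) (a : U ≃* U) (h : ∀ x, f x = 1 ↔ g (a x) = 1) : Nonempty (G ≃* H) := by
  have e : (g.comp a.toMonoidHom).ker = f.ker := by
    ext x
    exact (h x).symm
  have hs : Surjective (g.comp a.toMonoidHom) := hg.comp a.surjective
  exact ⟨(QuotientGroup.quotientKerEquivOfSurjective f hf).symm.trans
    ((QuotientGroup.quotientMulEquivOfEq e.symm).trans (QuotientGroup.quotientKerEquivOfSurjective _ hs))⟩

end

end Cfsg.Agent.H881.DM
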